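import Cfsg.Agent.Lib.CosetEnum.Loop
import Cfsg.Agent.Lib.CosetEnum.HeLoop.TabF_Data0
import Cfsg.Agent.Lib.CosetEnum.HeLoop.TabC_Data0

/-! Generated certificate. -/

set_option autoImplicit false
set_option maxRecDepth 20000

namespace Cfsg.Lib.CosetEnum.HeLoop

/-- Facts. -/
def tabF : Tab :=
  tabF_0

/-- Steps. -/
def tabC : Tab :=
  tabC_0

/-- The shifts in use. -/
def relWords : List (List Nat) :=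
  [[0, 0],
    [1, 1],
    [2, 2],
    [3, 3],
    [4, 4],
    [5, 5],
    [6, 6],
    [0, 1, 0, 1, 0, 1, 0, 1],
    [0, 2, 0, 2],
    [0, 3, 0, 3],
    [0, 4, 0, 4],
    [0, 5, 0, 5],
    [0, 6, 0, 6],
    [1, 2, 1, 2, 1, 2],
    [1, 3, 1, 3],
    [1, 4, 1, 4],
    [1, 5, 1, 5],
    [1, 6, 1, 6],
    [2, 3, 2, 3, 2, 3, 2, 3, 2, 3, 2, 3, 2, 3, 2, 3, 2, 3, 2, 3],
    [2, 4, 2, 4],
    [2, 5, 2, 5],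
    [2, 6, 2, 6],
    [3, 4, 3, 4, 3, 4],
    [3, 5, 3, 5, 3, 5],
    [3, 6, 3, 6, 3, 6],
    [4, 5, 4, 5],
    [4, 6, 4, 6],
    [5, 6, 5, 6, 5, 6, 5, 6],
    [4, 6, 5, 6, 5],
    [4, 2, 1, 0, 2, 1, 0, 2, 1, 0],
    [0, 3, 2, 3, 2, 3, 2, 3, 2, 3, 2],
    [2, 3, 5, 6, 2, 3, 5, 6, 2, 3, 5, 6, 2, 3, 5, 6],
    [2, 3, 2, 3, 2, 3, 2, 3, 2, 0, 3],
    [2, 3, 2, 3, 2, 0, 3, 2, 3, 2, 3],
    [2, 3, 2, 0, 3, 2, 3, 2, 3, 2, 3],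
    [2, 3, 2, 3, 0, 2, 3, 2, 3, 2, 3],
    [2, 3, 0, 2, 3, 2, 3, 2, 3, 2, 3],
    [2, 0, 2, 0],
    [2, 0, 3, 2, 3, 2, 3, 2, 3, 2, 3],
    [2, 1, 2, 1, 2, 1],
    [2, 1, 0, 4, 2, 1, 0, 2, 1, 0],
    [0, 4, 2, 1, 0, 2, 1, 0, 2, 1],
    [2, 3, 2, 3, 2, 3, 0, 2, 3, 2, 3],
    [3, 0, 3, 0],
    [1, 0, 4, 2, 1, 0, 2, 1, 0, 2],
    [3, 1, 3, 1],
    [4, 0, 4, 0],
    [0, 1, 2, 4, 0, 1, 2, 0, 1, 2],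
    [4, 3, 4, 3, 4, 3],
    [3, 2, 3, 2, 3, 2, 0, 3, 2, 3, 2],
    [3, 2, 3, 2, 3, 2, 3, 2, 3, 2, 0]]

/-- The word shown to be trivial. -/
def word : List Nat :=
  [2, 3, 2, 3, 4, 3, 2, 3, 2, 3, 4, 3, 2, 3, 4]

/-- Its loop. -/
def loop : List Nat :=
  [310, 18, 19, 20, 161, 162, 465, 308, 307, 472, 460, 291, 139, 140, 376, 324, 312]

/-- The certificate. -/
def cert : LoopCert :=
  ⟨relWords, tabF, tabC, 309, 164, word, loop⟩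

end Cfsg.Lib.CosetEnum.HeLoop
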